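/-
The shortest lattice vectors supported on an octad and orthogonal to the standard one: modulo
sign they are the sixty-three non-zero points of a symplectic space of dimension six.
-/
import Cfsg.Agent.Leech.Xi
import Cfsg.Agent.Leech.MinVectors
import Cfsg.Agent.Classical.SymplecticBasic
import Cfsg.Agent.Co2Cent.Data

set_option autoImplicit false
set_option maxRecDepth 100000

namespace CfsgLib.Co2Cent

open Cfsg CfsgLib.Golay CfsgLib.Leech

/-- The six-dimensional space over the field with two elements. -/
abbrev V6 : Type := Fin 3 ⊕ Fin 3 → ZMod 2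

/-- The vector with a given list of coordinates. -/
def sv (L : List Int) : GolayPt → ℤ := fun p => L.getD (idx p) 0

/-- Half the normalised inner product, modulo two. -/
def bb (v w : GolayPt → ℤ) : ZMod 2 := ((dotInt v w / 16 : ℤ) : ZMod 2)

/-- Coordinates with respect to the symplectic basis. -/
def coords (v : GolayPt → ℤ) : V6 :=
  Sum.elim (fun i => bb v (sv (fList.getD i.val []))) (fun i => bb v (sv (eList.getD i.val [])))

/-- The point with given binary digits. -/
def ofN (n : Fin 64) : V6 :=
  Sum.elim (fun i => if n.val.testBit i.val then 1 else 0)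
    (fun i => if n.val.testBit (3 + i.val) then 1 else 0)

theorem ofN_injective : ∀ m n : Fin 64, ofN m = ofN n → m = n := by decide +kernel

theorem ofN_bijective : Function.Bijective ofN :=
  (Fintype.bijective_iff_injective_and_card _).mpr ⟨fun m n => ofN_injective m n, by simp⟩

theorem ofN_zero : ofN 0 = 0 := by decide +kernel

/-- The representative of the point with given digits. -/
def repN (n : Fin 64) : GolayPt → ℤ := sv (repList.getD n.val [])

/-- The representative of a point. -/
noncomputable def rep (x : V6) : GolayPt → ℤ := repN ((Equiv.ofBijective ofN ofN_bijective).symm x)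

theorem rep_ofN (n : Fin 64) : rep (ofN n) = repN n := by
  rw [rep, show ofN n = Equiv.ofBijective ofN ofN_bijective n from rfl, Equiv.symm_apply_apply]

theorem forall_v6 {P : V6 → Prop} (h : ∀ n, P (ofN n)) (x : V6) : P x := by
  obtain ⟨n, rfl⟩ := ofN_bijective.2 x
  exact h n

theorem coords_repN : ∀ n, coords (repN n) = ofN n := by decide +kernel

theorem coords_rep (x : V6) : coords (rep x) = x :=
  forall_v6 (P := fun x => coords (rep x) = x) (fun n => by rw [rep_ofN, coords_repN]) x

theorem rep_zero : rep 0 = 0 := by
  rw [← ofN_zero, rep_ofN]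
  funext p; revert p; decide +kernel

/-- Supported on the octad. -/
def Supp (v : GolayPt → ℤ) : Prop := ∀ p, oMask.testBit (idx p) = false → v p = 0

instance (v : GolayPt → ℤ) : Decidable (Supp v) := by unfold Supp; infer_instance

/-- A shortest vector supported on the octad and orthogonal to the standard one. -/
def IsRoot (v : GolayPt → ℤ) : Prop :=
  v ∈ leechLattice ∧ Supp v ∧ sqNorm v = 32 ∧ dotInt v Spor.vecU = 0

theorem repN_spec : ∀ n : Fin 64, LeechTest (repN n) ∧ Supp (repN n) ∧
    sqNorm (repN n) = (if n = 0 then 0 else 32) ∧ dotInt (repN n) Spor.vecU = 0 := by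
  decide +kernel

theorem rep_mem (x : V6) : rep x ∈ leechLattice :=
  forall_v6 (P := fun x => rep x ∈ leechLattice)
    (fun n => by rw [rep_ofN]; exact mem_of_test (repN_spec n).1) x

theorem isRoot_rep {x : V6} (hx : x ≠ 0) : IsRoot (rep x) := by
  obtain ⟨n, rfl⟩ := ofN_bijective.2 x
  have hn : n ≠ 0 := fun h => hx (by rw [h, ofN_zero])
  obtain ⟨h1, h2, h3, h4⟩ := repN_spec n
  rw [rep_ofN]
  exact ⟨mem_of_test h1, h2, by rw [h3, if_neg hn], h4⟩

theorem pairsN : ∀ m n : Fin 64, dotInt (repN m) (repN n) % 16 = 0 ∧
    bb (repN m) (repN n) = Symp.form (ofN m) (ofN n) := by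
  decide +kernel

theorem pairs (x y : V6) : (16 : ℤ) ∣ dotInt (rep x) (rep y) ∧
    bb (rep x) (rep y) = Symp.form x y := by
  obtain ⟨m, rfl⟩ := ofN_bijective.2 x
  obtain ⟨n, rfl⟩ := ofN_bijective.2 y
  rw [rep_ofN, rep_ofN]
  exact ⟨Int.dvd_of_emod_eq_zero (pairsN m n).1, (pairsN m n).2⟩

/-- Congruence up to sign. -/
def PM (v w : GolayPt → ℤ) : Prop := (∀ p, v p = w p) ∨ ∀ p, v p = -w p

instance (v w : GolayPt → ℤ) : Decidable (PM v w) := by unfold PM; infer_instance

/-- A vector with two given values. -/
def twoVal (i j : ℕ) (a b : ℤ) : GolayPt → ℤ :=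
  fun p => if idx p = i then a else if idx p = j then b else 0

theorem twoVal_cover : ∀ i ∈ oPts, ∀ j ∈ oPts, ∀ a ∈ [(4 : ℤ), -4], ∀ b ∈ [(4 : ℤ), -4], i ≠ j →
    dotInt (twoVal i j a b) Spor.vecU = 0 → ∃ n : Fin 64, PM (twoVal i j a b) (repN n) := by
  decide +kernel

/-- The vector of twos on the octad with given signs. -/
def signVal (f : Fin 8 → Bool) : GolayPt → ℤ :=
  fun p => if oMask.testBit (idx p) then
    (if f (Fin.ofNat 8 (oPts.idxOf (idx p))) then -2 else 2) else 0

theorem signVal_cover : ∀ f : Fin 8 → Bool, (∑ p, signVal f p) % 8 = 0 →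
    dotInt (signVal f) Spor.vecU = 0 → ∃ n : Fin 64, PM (signVal f) (repN n) := by
  decide +kernel

theorem oPts_pos : ∀ k : Fin 8, oMask.testBit (idx (pt (oPts.getD k.val 0))) = true ∧
    oPts.idxOf (idx (pt (oPts.getD k.val 0))) = k.val := by decide +kernel

theorem oPts_back : ∀ p, oMask.testBit (idx p) = true →
    idx p ∈ oPts ∧ oPts.idxOf (idx p) < 8 ∧ pt (oPts.getD (oPts.idxOf (idx p)) 0) = p := by
  decide +kernel

theorem mem_oPts_of_ne {v : GolayPt → ℤ} (hs : Supp v) {p : GolayPt} (h : v p ≠ 0) :
    idx p ∈ oPts :=
  (oPts_back p (by by_contra hb; exact h (hs p (by simpa using hb)))).1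

theorem oWord : word (oMask % 4096) = oMask ∧ wt 24 oMask = 8 := by decide +kernel

theorem card_oMask : (pts oMask).card = 8 := by rw [card_pts]; exact oWord.2

theorem root_rep {v : GolayPt → ℤ} (hv : IsRoot v) :
    v = rep (coords v) ∨ v = -rep (coords v) := by
  obtain ⟨hl, hs, hn, hu⟩ := hv
  have key : ∃ n : Fin 64, PM v (repN n) := by
    rcases min_shape hl hn with ⟨i, j, hij, hi, hj, h0⟩ | ⟨o, ho, hin, hout⟩ | ⟨i, hi, hC⟩
    · have e : v = twoVal (idx i) (idx j) (v i) (v j) := by
        funext p
        simp only [twoVal, idx_injective.eq_iff]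
        split_ifs with h1 h2
        · rw [h1]
        · rw [h2]
        · exact h0 p h1 h2
      rw [e] at hu ⊢
      exact twoVal_cover _ (mem_oPts_of_ne hs (by omega)) _ (mem_oPts_of_ne hs (by omega)) _
        (by rcases hi with h | h <;> simp [h]) _ (by rcases hj with h | h <;> simp [h])
        (fun h => hij (idx_injective h)) hu
    · have hsub : o ⊆ pts oMask := fun p hp => by
        simp only [pts, Finset.mem_filter, Finset.mem_univ, true_and]
        by_contra hb
        have := hs p (by simpa using hb)
        rcases hin p hp with h | h <;> omega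
      have heq : o = pts oMask :=
        Finset.eq_of_subset_of_card_le hsub (by rw [card_oMask, ho.2])
      let f : Fin 8 → Bool := fun k => decide (v (pt (oPts.getD k.val 0)) = -2)
      have e : v = signVal f := by
        funext p
        simp only [signVal]
        by_cases hb : oMask.testBit (idx p) = true
        · obtain ⟨-, hlt, hp⟩ := oPts_back p hb
          rw [if_pos hb]
          simp only [f, Fin.val_ofNat, Nat.mod_eq_of_lt hlt, hp, decide_eq_true_eq]
          rcases hin p (heq ▸ by simp [pts, hb]) with h | h <;> rw [h] <;> norm_num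
        · rw [if_neg hb]
          exact hs p (by simpa using hb)
      have hsum := (mem_leech hl).sum
      have hev : v none % 2 = 0 := by
        by_cases hb : none ∈ o
        · rcases hin none hb with h | h <;> omega
        · rw [hout none hb]; rfl
      have h8 : (∑ p, v p) % 8 = 0 := by omega
      rw [e] at hu h8 ⊢
      exact signVal_cover f h8 hu
    · exfalso
      obtain ⟨p, hp, hpi⟩ : ∃ p, oMask.testBit (idx p) = false ∧ p ≠ i := by
        have : ∀ i, ∃ p, oMask.testBit (idx p) = false ∧ p ≠ i := by decide +kernel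
        exact this i
      have := hs p hp
      rcases hC p hpi with h | h <;> omega
  obtain ⟨n, h | h⟩ := key
  · left
    have e : v = repN n := funext h
    rw [e, coords_repN, rep_ofN]
  · right
    have e : v = -repN n := funext h
    have hc : coords (-repN n) = ofN n := by
      have : ∀ n, coords (-repN n) = ofN n := by decide +kernel
      exact this n
    rw [e, hc, rep_ofN]

theorem coords_neg_rep : ∀ x : V6, coords (-rep x) = x :=
  forall_v6 (P := fun x => coords (-rep x) = x) (fun n => by
    have : ∀ n, coords (-repN n) = ofN n := by decide +kernel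
    rw [rep_ofN, this n])

end CfsgLib.Co2Cent
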