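/-
The centraliser of a sign change on sixteen points, inside the stabiliser of a shortest vector,
acts on the six-dimensional symplectic space.
-/
import Cfsg.Agent.Co2Cent.Roots
import Cfsg.Agent.Leech.Linear

set_option autoImplicit false
set_option maxRecDepth 100000

namespace CfsgLib.Co2Cent

open Cfsg CfsgLib.Golay CfsgLib.Leech

/-- The word on the complement of the octad. -/
def tW : golayCode := ⟨vec (word tC), vec_word_mem tC⟩

/-- The sign change. -/
def tCo : Co0 := signAut tW

theorem tW_apply : ∀ p, (tW : GolayPt → ZMod 2) p = if oMask.testBit (idx p) then 0 else 1 := by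
  decide +kernel

theorem supp_iff (v : leechLattice) : tCo • v = v ↔ Supp (v : GolayPt → ℤ) := by
  constructor
  · intro h p hp
    have h2 := congrFun (congrArg Subtype.val h) p
    rw [tCo, signAut_apply] at h2
    simp only [flipSign, tW_apply, hp, Bool.false_eq_true, if_false, if_true] at h2
    omega
  · intro h
    refine Subtype.ext (funext fun p => ?_)
    rw [tCo, signAut_apply]
    simp only [flipSign, tW_apply]
    cases hb : oMask.testBit (idx p)
    · simp [h p hb]
    · simp

/-- The centraliser of the sign change in the stabiliser of the vector. -/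
def C0 : Subgroup Co0 :=
  Subgroup.centralizer {tCo} ⊓ MulAction.stabilizer Co0 Spor.leechU

theorem mem_C0 {g : Co0} : g ∈ C0 ↔ g * tCo = tCo * g ∧ g • Spor.leechU = Spor.leechU := by
  rw [C0, Subgroup.mem_inf, Subgroup.mem_centralizer_singleton_iff, MulAction.mem_stabilizer_iff]

theorem isRoot_smul (g : C0) (v : leechLattice) (hv : IsRoot (v : GolayPt → ℤ)) :
    IsRoot (((g : Co0) • v : leechLattice) : GolayPt → ℤ) := by
  obtain ⟨hc, hu⟩ := mem_C0.mp g.2
  refine ⟨((g : Co0) • v : leechLattice).2, (supp_iff _).mp ?_, by rw [sqNorm_smul]; exact hv.2.2.1, ?_⟩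
  · rw [← mul_smul, ← hc, mul_smul, (supp_iff v).mpr hv.2.1]
  · have h := dot_smul' (g : Co0) v Spor.leechU
    rw [hu] at h
    exact h.trans hv.2.2.2

/-- The representative as a lattice vector. -/
noncomputable def repL (x : V6) : leechLattice := ⟨rep x, rep_mem x⟩

theorem repL_zero : repL 0 = 0 := Subtype.ext rep_zero

/-- The action on the points. -/
noncomputable def act (g : Co0) (x : V6) : V6 :=
  coords ((g • repL x : leechLattice) : GolayPt → ℤ)

theorem smul_repL (g : C0) (x : V6) :
    (g : Co0) • repL x = repL (act g x) ∨ (g : Co0) • repL x = -repL (act g x) := by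
  by_cases hx : x = 0
  · subst hx
    left
    have h0 : act g 0 = 0 := by
      show coords _ = 0
      rw [repL_zero, smul_zero']
      show coords 0 = 0
      rw [← rep_zero, coords_rep]
    rw [h0, repL_zero, smul_zero']
  · rcases root_rep (isRoot_smul g (repL x) (isRoot_rep hx)) with h | h
    · exact Or.inl (Subtype.ext h)
    · exact Or.inr (Subtype.ext h)

theorem act_mul (g h : C0) (x : V6) : act ((g * h : C0) : Co0) x = act g (act h x) := by
  show coords _ = coords _
  rw [Subgroup.coe_mul, mul_smul]
  rcases smul_repL h x with e | e <;> rw [e]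
  rw [smul_neg']
  rcases smul_repL g (act h x) with e' | e' <;> rw [e']
  · show coords (-rep _) = coords (rep _)
    rw [coords_rep, coords_neg_rep]
  · rw [neg_neg]
    show coords (rep _) = coords (-rep _)
    rw [coords_rep, coords_neg_rep]

theorem act_one (x : V6) : act 1 x = x := by
  show coords _ = x
  rw [one_smul]
  exact coords_rep x

theorem bb_neg_left {v w : GolayPt → ℤ} (h : (16 : ℤ) ∣ dotInt v w) : bb (-v) w = bb v w := by
  obtain ⟨k, hk⟩ := h
  have e : dotInt (-v) w = -dotInt v w := by simp [dotInt]
  simp only [bb, e, hk]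
  rw [← mul_neg, Int.mul_ediv_cancel_left _ (by norm_num), Int.mul_ediv_cancel_left _ (by norm_num)]
  push_cast
  exact CharTwo.neg_eq _

theorem bb_comm (v w : GolayPt → ℤ) : bb v w = bb w v := by
  simp only [bb, dotInt, mul_comm]

theorem dotInt_comm' (v w : GolayPt → ℤ) : dotInt v w = dotInt w v := by
  simp only [dotInt, mul_comm]

theorem bb_neg_right {v w : GolayPt → ℤ} (h : (16 : ℤ) ∣ dotInt v w) : bb v (-w) = bb v w := by
  rw [bb_comm, bb_neg_left (by rwa [dotInt_comm']), bb_comm]

theorem act_form (g : C0) (x y : V6) : Symp.form (act g x) (act g y) = Symp.form x y := by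
  have h := (pairs x y).2
  rw [bb, show dotInt (rep x) (rep y) = dotInt ((repL x : leechLattice) : GolayPt → ℤ)
    ((repL y : leechLattice) : GolayPt → ℤ) from rfl, ← dot_smul' (g : Co0) (repL x) (repL y)] at h
  rw [← h, ← (pairs (act g x) (act g y)).2]
  have hd := (pairs (act g x) (act g y)).1
  rcases smul_repL g x with e | e <;> rcases smul_repL g y with e' | e' <;> rw [e, e']
  · rfl
  · exact (bb_neg_right hd).symm
  · exact (bb_neg_left hd).symm
  · show bb (rep _) (rep _) = bb (-rep _) (-rep _)
    simp [bb, dotInt]

theorem act_bijective (g : C0) : Function.Bijective (act g) := by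
  refine ⟨fun x y h => ?_, fun x => ⟨act (g⁻¹ : C0) x, ?_⟩⟩
  · have := congrArg (act ((g⁻¹ : C0) : Co0)) h
    rwa [← act_mul, ← act_mul, inv_mul_cancel, Subgroup.coe_one, act_one, act_one] at this
  · rw [← act_mul, mul_inv_cancel, Subgroup.coe_one, act_one]

theorem act_add (g : C0) (x y : V6) : act g (x + y) = act g x + act g y := by
  refine sub_eq_zero.mp (Symp.eq_zero_of_form_eq_zero fun u => ?_)
  obtain ⟨z, rfl⟩ := (act_bijective g).2 u
  rw [Symp.form_sub_right, Symp.form_add_right, act_form, act_form, act_form, Symp.form_add_right,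
    sub_self]

/-- The linear map of an element. -/
noncomputable def actLin (g : C0) : V6 →ₗ[ZMod 2] V6 where
  toFun := act g
  map_add' := act_add g
  map_smul' := fun c x => by
    rcases (by decide : ∀ a : ZMod 2, a = 0 ∨ a = 1) c with rfl | rfl
    · rw [RingHom.id_apply, zero_smul, zero_smul]
      have := act_add g 0 0
      simpa using this
    · rw [RingHom.id_apply, one_smul, one_smul]

theorem actMat_mulVec (g : C0) (x : V6) :
    Matrix.mulVec (LinearMap.toMatrix' (actLin g)) x = act g x := by
  rw [LinearMap.toMatrix'_mulVec]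
  rfl

/-- The action as a homomorphism to the symplectic group. -/
noncomputable def toSp : C0 →* Matrix.symplecticGroup (Fin 3) (ZMod 2) where
  toFun g := ⟨LinearMap.toMatrix' (actLin g), Symp.mem_iff_form.mpr fun u v => by
    rw [actMat_mulVec, actMat_mulVec, act_form]⟩
  map_one' := Symp.symp_ext fun x => by
    rw [one_smul]
    exact (actMat_mulVec 1 x).trans (act_one x)
  map_mul' g h := Symp.symp_ext fun x => by
    rw [mul_smul]
    refine (actMat_mulVec (g * h) x).trans ((act_mul g h x).trans ?_)
    exact ((actMat_mulVec g _).trans (by rw [← actMat_mulVec h x]; rfl)).symm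

theorem toSp_smul (g : C0) (x : V6) : toSp g • x = act g x := actMat_mulVec g x

theorem mem_ker_toSp {g : C0} : g ∈ toSp.ker ↔ ∀ x, act g x = x := by
  rw [MonoidHom.mem_ker]
  constructor
  · intro h x
    rw [← toSp_smul, h, one_smul]
  · intro h
    exact Symp.symp_ext fun x => by rw [toSp_smul, h, one_smul]

end CfsgLib.Co2Cent
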