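/-
The kernel of the action consists of monomial automorphisms fixing the octad pointwise.
-/
import Cfsg.Agent.Co2Cent.Action
import Cfsg.Agent.Leech.Order
import Cfsg.Agent.Leech.CentralizerP
import Cfsg.Agent.Golay.OctadStab
import Cfsg.Agent.Golay.NormalForm

set_option autoImplicit false
set_option maxRecDepth 100000

namespace CfsgLib.Co2Cent

open Cfsg CfsgLib.Golay CfsgLib.Leech CfsgLib.Golay.Cert
open scoped Pointwise

theorem octad_oMask : pts oMask ∈ octads :=
  (mem_octads_iff _).mpr ⟨oMask % 4096, Nat.mod_lt _ (by norm_num), by rw [oWord.1]; exact ⟨oWord.2, rfl⟩⟩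

theorem mem_oct {p : GolayPt} : p ∈ pts oMask ↔ oMask.testBit (idx p) = true := by simp [pts]

theorem ker_sign {g : C0} (hg : g ∈ toSp.ker) :
    (∀ v : leechLattice, IsRoot (v : GolayPt → ℤ) → (g : Co0) • v = v) ∨
    (∀ v : leechLattice, IsRoot (v : GolayPt → ℤ) → (g : Co0) • v = -v) := by
  have hx := mem_ker_toSp.mp hg
  have hpm : ∀ x : V6, (g : Co0) • repL x = repL x ∨ (g : Co0) • repL x = -repL x := fun x => by
    have := smul_repL g x
    rwa [hx x] at this
  have hstep : ∀ x y : V6, Symp.form x y ≠ 0 → (g : Co0) • repL x = repL x →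
      (g : Co0) • repL y = repL y := by
    intro x y hxy e
    rcases hpm y with e' | e'
    · exact e'
    exfalso
    have h := dot_smul' (g : Co0) (repL x) (repL y)
    rw [e, e'] at h
    have hd : dotInt (rep x) (rep y) = 0 := by
      have : dotInt (rep x) (-rep y) = dotInt (rep x) (rep y) := h
      have h2 : dotInt (rep x) (-rep y) = -dotInt (rep x) (rep y) := by simp [dotInt]
      omega
    refine hxy ?_
    rw [← (pairs x y).2, bb, hd]
    rfl
  set x0 : V6 := ofN 1 with hx0
  have conn : ∀ x : V6, x ≠ 0 → Symp.form x0 x ≠ 0 ∨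
      ∃ z, Symp.form x0 z ≠ 0 ∧ Symp.form z x ≠ 0 := by
    have : ∀ n : Fin 64, n ≠ 0 → Symp.form (ofN 1) (ofN n) ≠ 0 ∨
        ∃ z : Fin 64, Symp.form (ofN 1) (ofN z) ≠ 0 ∧ Symp.form (ofN z) (ofN n) ≠ 0 := by
      decide +kernel
    intro x hx'
    obtain ⟨n, rfl⟩ := ofN_bijective.2 x
    rcases this n (fun e => hx' (by rw [e, ofN_zero])) with h | ⟨z, h1, h2⟩
    exacts [Or.inl h, Or.inr ⟨_, h1, h2⟩]
  have fin : ∀ {v : leechLattice}, IsRoot (v : GolayPt → ℤ) →
      coords (v : GolayPt → ℤ) ≠ 0 ∧
      (v = repL (coords (v : GolayPt → ℤ)) ∨ v = -repL (coords (v : GolayPt → ℤ))) := by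
    intro v hv
    have hr : v = repL (coords (v : GolayPt → ℤ)) ∨ v = -repL (coords (v : GolayPt → ℤ)) := by
      rcases root_rep hv with h | h
      exacts [Or.inl (Subtype.ext h), Or.inr (Subtype.ext h)]
    refine ⟨fun h0 => ?_, hr⟩
    have h32 := hv.2.2.1
    rcases hr with h | h <;> rw [h, h0, repL_zero] at h32 <;> simp [sqNorm] at h32
  rcases hpm x0 with e0 | e0
  · left
    intro v hv
    obtain ⟨h0, hr⟩ := fin hv
    have : (g : Co0) • repL (coords (v : GolayPt → ℤ)) = repL (coords (v : GolayPt → ℤ)) := by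
      rcases conn _ h0 with h | ⟨z, h1, h2⟩
      exacts [hstep _ _ h e0, hstep _ _ h2 (hstep _ _ h1 e0)]
    rcases hr with h | h <;> rw [h]
    · exact this
    · rw [smul_neg', this]
  · right
    intro v hv
    obtain ⟨h0, hr⟩ := fin hv
    have hno : ∀ x y : V6, Symp.form x y ≠ 0 → (g : Co0) • repL x = -repL x →
        (g : Co0) • repL y = -repL y := by
      intro x y hxy e
      rcases hpm y with e' | e'
      · have := hstep y x (by rw [Symp.form_swap]; exact neg_ne_zero.mpr hxy) e'
        have heq : repL x = -repL x := this.symm.trans e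
        exfalso
        refine hxy ?_
        have : rep x = 0 := by
          funext p
          have h3 := congrFun (congrArg Subtype.val heq) p
          simp only [AddSubgroup.coe_neg, Pi.neg_apply, repL] at h3
          show rep x p = 0
          omega
        rw [← (pairs x y).2, this, bb]
        simp [dotInt]
      · exact e'
    have : (g : Co0) • repL (coords (v : GolayPt → ℤ)) = -repL (coords (v : GolayPt → ℤ)) := by
      rcases conn _ h0 with h | ⟨z, h1, h2⟩
      exacts [hno _ _ h e0, hno _ _ h2 (hno _ _ h1 e0)]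
    rcases hr with h | h <;> rw [h]
    · exact this
    · rw [smul_neg', this]

/-- The vector four, minus four at the first two points. -/
def rA : leechLattice := eightAt none - Spor.leechU

theorem rA_root : IsRoot (rA : GolayPt → ℤ) :=
  ⟨rA.2, by unfold rA Supp; decide +kernel, by unfold rA; decide +kernel, by unfold rA; decide +kernel⟩

theorem eight_none : eightAt none = Spor.leechU + rA := by rw [rA, add_sub_cancel]

theorem U_sub_rA : Spor.leechU - rA = eightAt (some 0) :=
  Subtype.ext (funext (by unfold rA; decide +kernel))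

theorem eight_split : ∀ p : GolayPt, oMask.testBit (idx p) = true → p ≠ none → p ≠ some 0 →
    ∃ k : Fin 8, idx p ≠ oPts.getD k.val 0 ∧
      ∀ b ∈ [(4 : ℤ), -4], LeechTest (twoVal (idx p) (oPts.getD k.val 0) 4 b) ∧
        Supp (twoVal (idx p) (oPts.getD k.val 0) 4 b) ∧
        sqNorm (twoVal (idx p) (oPts.getD k.val 0) 4 b) = 32 ∧
        dotInt (twoVal (idx p) (oPts.getD k.val 0) 4 b) Spor.vecU = 0 := by
  decide +kernel

theorem eight_eq {p : GolayPt} {j : ℕ} (hj : idx p ≠ j) (q : GolayPt) :
    twoVal (idx p) j 4 4 q + twoVal (idx p) j 4 (-4) q = (eightAt p : GolayPt → ℤ) q := by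
  simp only [twoVal, eightAt_apply, idx_injective.eq_iff]
  split_ifs <;> rfl

/-- The kernel fixes the coordinate vectors of the octad or reverses six of them. -/
theorem ker_eights {g : C0} (hg : g ∈ toSp.ker) :
    (∀ p, oMask.testBit (idx p) = true → (g : Co0) • eightAt p = eightAt p) ∨
    ((g : Co0) • eightAt none = eightAt (some 0) ∧ (g : Co0) • eightAt (some 0) = eightAt none ∧
      ∀ p, oMask.testBit (idx p) = true → p ≠ none → p ≠ some 0 →
        (g : Co0) • eightAt p = -eightAt p) := by
  have hu := (mem_C0.mp g.2).2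
  have split : ∀ p, oMask.testBit (idx p) = true → p ≠ none → p ≠ some 0 →
      ∃ v w : leechLattice, IsRoot (v : GolayPt → ℤ) ∧ IsRoot (w : GolayPt → ℤ) ∧ eightAt p = v + w := by
    intro p hp h1 h2
    obtain ⟨k, hk, hk'⟩ := eight_split p hp h1 h2
    obtain ⟨a1, a2, a3, a4⟩ := hk' 4 (by simp)
    obtain ⟨b1, b2, b3, b4⟩ := hk' (-4) (by simp)
    exact ⟨⟨_, mem_of_test a1⟩, ⟨_, mem_of_test b1⟩, ⟨mem_of_test a1, a2, a3, a4⟩,
      ⟨mem_of_test b1, b2, b3, b4⟩, Subtype.ext (funext fun q => (eight_eq hk q).symm)⟩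
  rcases ker_sign hg with h | h
  · left
    intro p hp
    by_cases h1 : p = none
    · rw [h1, eight_none, smul_add', hu, h rA rA_root]
    by_cases h2 : p = some 0
    · rw [h2, ← U_sub_rA, smul_sub', hu, h rA rA_root]
    obtain ⟨v, w, hv, hw, e⟩ := split p hp h1 h2
    rw [e, smul_add', h v hv, h w hw]
  · right
    refine ⟨?_, ?_, fun p hp h1 h2 => ?_⟩
    · rw [eight_none, smul_add', hu, h rA rA_root, ← U_sub_rA, sub_eq_add_neg]
    · rw [← U_sub_rA, smul_sub', hu, h rA rA_root, eight_none, sub_neg_eq_add]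
    · obtain ⟨v, w, hv, hw, e⟩ := split p hp h1 h2
      rw [e, smul_add', h v hv, h w hw, neg_add]

theorem mono_eightAt_self (x : golayCode × M24) (q : GolayPt) :
    ((monoAut x • eightAt q : leechLattice) : GolayPt → ℤ) ((x.2 : Equiv.Perm GolayPt) q) =
      if (x.1 : GolayPt → ZMod 2) ((x.2 : Equiv.Perm GolayPt) q) = 1 then -8 else 8 := by
  rw [monoAut_eightAt]
  simp [flipSign, eightAt_apply]

theorem perm_of_image {x : golayCode × M24} {q r : GolayPt}
    (h : monoAut x • eightAt q = eightAt r ∨ monoAut x • eightAt q = -eightAt r) :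
    (x.2 : Equiv.Perm GolayPt) q = r := by
  by_contra hne
  have h1 := mono_eightAt_self x q
  rcases h with h | h <;> rw [h] at h1
  · simp only [eightAt_apply, hne, if_false] at h1
    split_ifs at h1 <;> omega
  · simp only [AddSubgroup.coe_neg, Pi.neg_apply, eightAt_apply, hne, if_false] at h1
    split_ifs at h1 <;> omega

/-- No element of the group of the code induces a transposition on an octad. -/
theorem no_transposition {o : Finset GolayPt} (ho : o ∈ octads) {a b : GolayPt} (ha : a ∈ o)
    (hb : b ∈ o) (hab : a ≠ b) (σ : M24)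
    (hmap : ∀ p ∈ o, (σ : Equiv.Perm GolayPt) p = Equiv.swap a b p) : False := by
  have hst : σ ∈ MulAction.stabilizer M24 o := by
    rw [MulAction.mem_stabilizer_iff, smul_finset_eq_image]
    refine Finset.eq_of_subset_of_card_le (fun q hq => ?_)
      (Finset.card_image_of_injective _ (σ : Equiv.Perm GolayPt).injective).ge
    obtain ⟨p, hp, rfl⟩ := Finset.mem_image.mp hq
    rw [hmap p hp]
    rcases eq_or_ne p a with rfl | h1
    · rwa [Equiv.swap_apply_left]
    rcases eq_or_ne p b with rfl | h2
    · rwa [Equiv.swap_apply_right]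
    rwa [Equiv.swap_apply_of_ne_of_ne h1 h2]
  have hr : res o ⟨σ, hst⟩ = Equiv.swap ⟨a, ha⟩ ⟨b, hb⟩ := by
    refine Equiv.ext fun p => Subtype.ext ?_
    rw [res_apply]
    refine (hmap p p.2).trans ?_
    simp only [Equiv.swap_apply_def, Subtype.ext_iff]
    split_ifs <;> rfl
  have halt : res o ⟨σ, hst⟩ ∈ alternatingGroup ↥o := range_res ho ▸ ⟨_, rfl⟩
  rw [hr, Equiv.Perm.mem_alternatingGroup, Equiv.Perm.sign_swap (by simpa using hab)] at halt
  exact absurd halt (by decide)

/-- Every element of the kernel is monomial, trivial on the octad. -/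
theorem ker_mono {g : C0} (hg : g ∈ toSp.ker) :
    ∃ x : golayCode × M24, monoAut x = (g : Co0) ∧
      ∀ p, oMask.testBit (idx p) = true →
        (x.1 : GolayPt → ZMod 2) p = 0 ∧ (x.2 : Equiv.Perm GolayPt) p = p := by
  have hcls : (g : Co0) ∈ monoGroup := by
    show cls _ = cls _
    rcases ker_eights hg with h | ⟨h, -, -⟩
    · rw [h none (by decide +kernel)]
    · rw [h]
      exact cls_eightAt _
  obtain ⟨x, hx⟩ := exists_monoAut hcls
  rcases ker_eights hg with h | ⟨ha, hb, hc⟩
  · refine ⟨x, hx, fun p hp => ?_⟩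
    have hp2 := h p hp
    rw [← hx] at hp2
    have hfix := perm_of_image (Or.inl hp2)
    refine ⟨?_, hfix⟩
    have h1 := mono_eightAt_self x p
    rw [hp2, hfix, eightAt_apply, if_pos rfl] at h1
    rcases eq_zero_or_one ((x.1 : GolayPt → ZMod 2) p) with e | e
    · exact e
    · rw [e] at h1; simp at h1
  · exfalso
    rw [← hx] at ha hb
    have e1 := perm_of_image (Or.inl ha)
    have e2 := perm_of_image (Or.inl hb)
    have e3 : ∀ p, oMask.testBit (idx p) = true → p ≠ none → p ≠ some 0 →
        (x.2 : Equiv.Perm GolayPt) p = p := fun p hp h1 h2 => by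
      have := hc p hp h1 h2
      rw [← hx] at this
      exact perm_of_image (Or.inr this)
    have hn : (none : GolayPt) ∈ pts oMask := mem_oct.mpr (by decide +kernel)
    have h0 : (some 0 : GolayPt) ∈ pts oMask := mem_oct.mpr (by decide +kernel)
    have hmap : ∀ p ∈ pts oMask, (x.2 : Equiv.Perm GolayPt) p =
        Equiv.swap (none : GolayPt) (some 0) p := fun p hp => by
      by_cases h1 : p = none
      · rw [h1, e1, Equiv.swap_apply_left]
      by_cases h2 : p = some 0
      · rw [h2, e2, Equiv.swap_apply_right]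
      rw [e3 p (mem_oct.mp hp) h1 h2, Equiv.swap_apply_of_ne_of_ne h1 h2]
    exact no_transposition octad_oMask hn h0 (by simp) x.2 hmap

end CfsgLib.Co2Cent
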