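/-
The kernel of the action is extraspecial of order 2 to the power nine.
-/
import Cfsg.Agent.Co2Cent.Kernel
import Cfsg.Agent.KGroup.TISet
import Cfsg.Agent.KGroup.TISquares
import Cfsg.Prelude.Def_Transfer

set_option autoImplicit false
set_option maxRecDepth 100000

namespace CfsgLib.Co2Cent

open Cfsg CfsgLib.Golay CfsgLib.Leech CfsgLib.Golay.Cert
open scoped commutatorElement

/-- A code word and a permutation, both trivial on the octad. -/
def Triv (x : golayCode × M24) : Prop := ∀ p, oMask.testBit (idx p) = true →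
  (x.1 : GolayPt → ZMod 2) p = 0 ∧ (x.2 : Equiv.Perm GolayPt) p = p

theorem triv_inv_perm {x : golayCode × M24} (hx : Triv x) (p : GolayPt) :
    oMask.testBit (idx ((x.2 : Equiv.Perm GolayPt)⁻¹ p)) = oMask.testBit (idx p) := by
  cases hb : oMask.testBit (idx p)
  · by_contra hc
    have hc' : oMask.testBit (idx ((x.2 : Equiv.Perm GolayPt)⁻¹ p)) = true := by simpa using hc
    have := (hx _ hc').2
    simp only [Equiv.Perm.inv_def, Equiv.apply_symm_apply] at this
    rw [Equiv.Perm.inv_def, ← this, hb] at hc'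
    exact Bool.false_ne_true hc'
  · have h1 : (x.2 : Equiv.Perm GolayPt)⁻¹ p = p := by
      rw [Equiv.Perm.inv_def, Equiv.symm_apply_eq]; exact (hx p hb).2.symm
    rw [h1, hb]

theorem triv_smul {x : golayCode × M24} (hx : Triv x) {v : leechLattice}
    (hv : Supp (v : GolayPt → ℤ)) : monoAut x • v = v := by
  refine Subtype.ext (funext fun p => ?_)
  rw [monoAut, mul_smul, signAut_apply]
  cases hb : oMask.testBit (idx p)
  · have h0 : (v : GolayPt → ℤ) ((x.2 : Equiv.Perm GolayPt)⁻¹ p) = 0 :=
      hv _ (by rw [triv_inv_perm hx, hb])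
    simp only [flipSign, permHom_apply, h0, hv p hb, neg_zero, ite_self]
  · have hp := hx p hb
    have h1 : (x.2 : Equiv.Perm GolayPt)⁻¹ p = p := by
      rw [Equiv.Perm.inv_def, Equiv.symm_apply_eq]; exact hp.2.symm
    simp only [flipSign, permHom_apply, h1, hp.1, zero_ne_one, if_false]

theorem vecU_supp : Supp Spor.vecU := by decide +kernel

theorem triv_comm {x : golayCode × M24} (hx : Triv x) : monoAut x * tCo = tCo * monoAut x := by
  rw [tCo, signAut_eq_monoAut, monoAut_mul, monoAut_mul]
  congr 1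
  refine Prod.ext (Subtype.ext (funext fun p => ?_)) ?_
  · simp only [Submodule.coe_add, Pi.add_apply, OneMemClass.coe_one, inv_one, Equiv.Perm.coe_one,
      id_eq, tW_apply, triv_inv_perm hx]
    exact add_comm _ _
  · simp

theorem triv_mem {x : golayCode × M24} (hx : Triv x) :
    ∃ g : C0, g ∈ toSp.ker ∧ (g : Co0) = monoAut x := by
  have hm : monoAut x ∈ C0 := mem_C0.mpr ⟨triv_comm hx, triv_smul hx vecU_supp⟩
  refine ⟨⟨_, hm⟩, mem_ker_toSp.mpr fun y => ?_, rfl⟩
  have hs : Supp (rep y) := by
    by_cases hy : y = 0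
    · rw [hy, rep_zero]; exact fun _ _ => rfl
    · exact (isRoot_rep hy).2.1
  show coords _ = y
  rw [triv_smul hx (v := repL y) hs]
  exact coords_rep y

/-- The parametrisation of the kernel. -/
noncomputable def param (x : {x : golayCode × M24 // Triv x}) : toSp.ker :=
  ⟨(triv_mem x.2).choose, (triv_mem x.2).choose_spec.1⟩

theorem coe_param (x : {x : golayCode × M24 // Triv x}) : ((param x : C0) : Co0) = monoAut x.1 :=
  (triv_mem x.2).choose_spec.2

theorem param_bijective : Function.Bijective param := by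
  refine ⟨fun x y h => Subtype.ext (monoAut_injective ?_), fun g => ?_⟩
  · rw [← coe_param, ← coe_param, h]
  · obtain ⟨x, hx, ht⟩ := ker_mono g.2
    exact ⟨⟨x, ht⟩, Subtype.ext (Subtype.ext ((coe_param _).trans hx))⟩

theorem dList_spec : ∀ c ∈ dList, c < 4096 ∧ word c &&& oMask = 0 := by decide +kernel

theorem dList_all : ∀ c < 4096, word c &&& oMask = 0 → c ∈ dList :=
  forall_lt_4096 (by decide +kernel)

theorem vanish_iff (m : ℕ) :
    (∀ p, oMask.testBit (idx p) = true → vec m p = 0) ↔ m &&& oMask = 0 := by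
  constructor
  · intro h
    refine Nat.eq_of_testBit_eq fun i => ?_
    rw [Nat.testBit_and, Nat.zero_testBit]
    by_contra hc
    simp only [Bool.and_eq_false_imp, not_forall, Bool.not_eq_false, exists_prop] at hc
    have hi : i < 24 := by
      by_contra h24
      have : oMask < 2 ^ i := lt_of_lt_of_le (show oMask < 2 ^ 24 by decide +kernel)
        (Nat.pow_le_pow_right (by norm_num) (by omega))
      rw [Nat.testBit_lt_two_pow this] at hc
      exact Bool.false_ne_true hc.2
    have := h (pt i) (by rw [idx_pt i hi]; exact hc.2)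
    simp [vec, idx_pt i hi, hc.1] at this
  · intro h p hp
    have := congrArg (fun k => k.testBit (idx p)) h
    simp only [Nat.testBit_and, hp, Bool.and_true, Nat.zero_testBit] at this
    simp [vec, this]

theorem word_of_triv {x : golayCode × M24} (hx : Triv x) :
    ∃ c ∈ dList, (x.1 : GolayPt → ZMod 2) = vec (word c) := by
  obtain ⟨c, hc, he⟩ := (mem_code_iff _).mp x.1.2
  exact ⟨c, dList_all c hc ((vanish_iff _).mp fun p hp => by rw [← he]; exact (hx p hp).1), he⟩

theorem kList_spec : kList.Nodup ∧ kList.length = 16 ∧ ∀ L ∈ kList, genOK L = true ∧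
    ∀ p, oMask.testBit (idx p) = true → L.getD (idx p) 0 = idx p := by decide +kernel

/-- The permutations fixing the octad pointwise. -/
def pSet : Set M24 :=
  {σ | ∀ p, oMask.testBit (idx p) = true → (σ : Equiv.Perm GolayPt) p = p}

theorem ncard_pSet : pSet.ncard = 16 := by
  rw [← Nat.card_coe_set_eq, ← (octad_fixing octad_oMask).1]
  refine Nat.card_congr ⟨fun g => ⟨g.1.1, g.1.2, (mem_fixingSubgroup_iff _).mpr fun p hp => g.2 p (mem_oct.mp hp)⟩,
    fun g => ⟨⟨g.1, g.2.1⟩, fun p hp => (mem_fixingSubgroup_iff _).mp g.2.2 p (mem_oct.mpr hp)⟩,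
    fun _ => rfl, fun _ => rfl⟩

theorem pSet_lists : (fun σ : M24 => toList (σ : Equiv.Perm GolayPt)) '' pSet = {L | L ∈ kList} := by
  refine (Set.eq_of_subset_of_ncard_le ?_ ?_ (Set.toFinite _)).symm
  · intro L hL
    obtain ⟨hg, hfix⟩ := kList_spec.2.2 L hL
    obtain ⟨g, hgl⟩ := genOK_spec hg
    refine ⟨g, fun p hp => idx_injective ?_, hgl⟩
    rw [← toList_getD_idx, hgl, hfix p hp]
  · rw [Set.ncard_image_of_injective _ fun a b h => Subtype.ext (toList_injective h), ncard_pSet,
      ← List.coe_toFinset, Set.ncard_coe_finset, List.toFinset_card_of_nodup kList_spec.1,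
      kList_spec.2.1]

theorem list_of_triv {x : golayCode × M24} (hx : Triv x) :
    toList (x.2 : Equiv.Perm GolayPt) ∈ kList := by
  have : toList (x.2 : Equiv.Perm GolayPt) ∈ (fun σ : M24 => toList (σ : Equiv.Perm GolayPt)) '' pSet :=
    ⟨x.2, fun p hp => (hx p hp).2, rfl⟩
  rwa [pSet_lists] at this

theorem triv_word {c : ℕ} (hc : c ∈ dList) : Triv (⟨vec (word c), vec_word_mem c⟩, 1) :=
  fun p hp => ⟨(vanish_iff _).mpr (dList_spec c hc).2 p hp, rfl⟩

theorem triv_perm {σ : M24} (h : σ ∈ pSet) : Triv (0, σ) := fun p hp => ⟨rfl, h p hp⟩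

theorem exists_perm {L : List ℕ} (hL : L ∈ kList) :
    ∃ σ : M24, σ ∈ pSet ∧ toList (σ : Equiv.Perm GolayPt) = L := by
  have : L ∈ (fun σ : M24 => toList (σ : Equiv.Perm GolayPt)) '' pSet := by rw [pSet_lists]; exact hL
  exact this

theorem card_ker_toSp : Nat.card toSp.ker = 512 := by
  rw [← Nat.card_eq_of_bijective _ param_bijective]
  let e : {x : golayCode × M24 // Triv x} ≃
      {w : golayCode // ∀ p, oMask.testBit (idx p) = true → (w : GolayPt → ZMod 2) p = 0} × pSet :=
    ⟨fun x => (⟨x.1.1, fun p hp => (x.2 p hp).1⟩, ⟨x.1.2, fun p hp => (x.2 p hp).2⟩),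
      fun y => ⟨(y.1.1, y.2.1), fun p hp => ⟨y.1.2 p hp, y.2.2 p hp⟩⟩, fun _ => rfl, fun _ => rfl⟩
  rw [Nat.card_congr e, Nat.card_prod, Nat.card_coe_set_eq, ncard_pSet]
  have hnd : dList.Nodup ∧ dList.length = 32 := by decide +kernel
  have hD : Nat.card {w : golayCode // ∀ p, oMask.testBit (idx p) = true →
      (w : GolayPt → ZMod 2) p = 0} = 32 := by
    rw [← hnd.2, ← List.toFinset_card_of_nodup hnd.1, ← Nat.card_eq_finsetCard]
    refine (Nat.card_eq_of_bijective (fun c : ↥dList.toFinset => ⟨⟨vec (word c.1), vec_word_mem _⟩,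
      (vanish_iff _).mpr (dList_spec c.1 (List.mem_toFinset.mp c.2)).2⟩) ⟨?_, ?_⟩).symm
    · intro a b h
      have h1 := congrArg (fun w => ((w.1 : golayCode) : GolayPt → ZMod 2)) h
      have la := (dList_spec a.1 (List.mem_toFinset.mp a.2)).1
      have lb := (dList_spec b.1 (List.mem_toFinset.mp b.2)).1
      have := vec_inj (word_lt _ la) (word_lt _ lb) h1
      exact Subtype.ext (by rw [← word_mod _ la, this, word_mod _ lb])
    · rintro ⟨w, hw⟩
      obtain ⟨c, hc, he⟩ := word_of_triv (x := (w, 1)) fun p hp => ⟨hw p hp, rfl⟩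
      exact ⟨⟨c, List.mem_toFinset.mpr hc⟩, Subtype.ext (Subtype.ext he.symm)⟩
  rw [hD]

theorem sq_table : ∀ L ∈ kList, compL L L = List.range 24 ∧ ∀ c ∈ dList,
    (word c ^^^ permMask L (word c) 24) = 0 ∨ (word c ^^^ permMask L (word c) 24) = word tC := by
  decide +kernel

theorem ker_sq (g : toSp.ker) :
    ((g : C0) : Co0) * (g : C0) = 1 ∨ ((g : C0) : Co0) * (g : C0) = tCo := by
  obtain ⟨x, rfl⟩ := param_bijective.2 g
  rw [coe_param, monoAut_mul]
  obtain ⟨c, hc, hw⟩ := word_of_triv x.2
  obtain ⟨hs, ht⟩ := sq_table _ (list_of_triv x.2)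
  have hσ : x.1.2 * x.1.2 = 1 := Subtype.ext (toList_injective (by
    rw [Subgroup.coe_mul, toList_mul, hs, Subgroup.coe_one, toList_one]))
  have hmask : (fun i => vec (word c) ((x.1.2 : Equiv.Perm GolayPt)⁻¹ i)) =
      vec (permMask (toList (x.1.2 : Equiv.Perm GolayPt)) (word c) 24) := (vec_permMask _ _).symm
  rw [hσ]
  rcases ht c hc with h | h
  · left
    have e : x.1.1 + ⟨fun i => (x.1.1 : GolayPt → ZMod 2) ((x.1.2 : Equiv.Perm GolayPt)⁻¹ i),
        M24_code (inv_mem x.1.2.2) x.1.1.2⟩ = 0 := Subtype.ext (by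
      simp only [Submodule.coe_add, hw, hmask, ← vec_xor, h, vec_zero, ZeroMemClass.coe_zero])
    rw [e, monoAut, signAut_zero, one_mul]
    exact map_one _
  · right
    have e : x.1.1 + ⟨fun i => (x.1.1 : GolayPt → ZMod 2) ((x.1.2 : Equiv.Perm GolayPt)⁻¹ i),
        M24_code (inv_mem x.1.2.2) x.1.1.2⟩ = tW := Subtype.ext (by
      simp only [Submodule.coe_add, hw, hmask, ← vec_xor, h, tW])
    rw [e, tCo, signAut_eq_monoAut]

theorem center_table : (∀ L ∈ kList, (∀ c ∈ dList, permMask L (word c) 24 = word c) → L = List.range 24) ∧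
    ∀ c ∈ dList, (∀ L ∈ kList, permMask L (word c) 24 = word c) → word c = 0 ∨ word c = word tC := by
  decide +kernel

theorem permMask_word_lt {σ : M24} {c : ℕ} :
    permMask (toList (σ : Equiv.Perm GolayPt)) (word c) 24 < 2 ^ 24 := permMask_lt _ _

theorem ker_center {g : toSp.ker} (hg : ∀ h : toSp.ker, g * h = h * g) :
    ((g : C0) : Co0) = 1 ∨ ((g : C0) : Co0) = tCo := by
  obtain ⟨x, rfl⟩ := param_bijective.2 g
  obtain ⟨c, hc, hw⟩ := word_of_triv x.2
  have hlt : word c < 2 ^ 24 := word_lt _ (dList_spec c hc).1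
  have key : ∀ y, Triv y → monoAut x.1 * monoAut y = monoAut y * monoAut x.1 := fun y hy => by
    have := congrArg (fun k : toSp.ker => ((k : C0) : Co0)) (hg (param ⟨y, hy⟩))
    simpa [coe_param] using this
  have h1 : toList (x.1.2 : Equiv.Perm GolayPt) = List.range 24 := by
    refine center_table.1 _ (list_of_triv x.2) fun d hd => ?_
    have := key _ (triv_word hd)
    rw [monoAut_mul, monoAut_mul] at this
    have e := congrArg (fun z : golayCode × M24 => (z.1 : GolayPt → ZMod 2)) (monoAut_injective this)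
    simp only [Submodule.coe_add, OneMemClass.coe_one, inv_one, Equiv.Perm.coe_one, id_eq] at e
    rw [← vec_permMask] at e
    refine vec_inj permMask_word_lt (word_lt _ (dList_spec d hd).1) ?_
    have e2 : (x.1.1 : GolayPt → ZMod 2) + vec (permMask (toList (x.1.2 : Equiv.Perm GolayPt)) (word d) 24) =
      vec (word d) + (x.1.1 : GolayPt → ZMod 2) := e
    rw [add_comm (vec (word d))] at e2
    exact add_left_cancel e2
  have hσ : x.1.2 = 1 := Subtype.ext (toList_injective (by rw [h1, Subgroup.coe_one, toList_one]))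
  have h2 : word c = 0 ∨ word c = word tC := by
    refine center_table.2 c hc fun L hL => ?_
    obtain ⟨τ, hτ, rfl⟩ := exists_perm hL
    have := key _ (triv_perm hτ)
    rw [monoAut_mul, monoAut_mul] at this
    have e := congrArg (fun z : golayCode × M24 => (z.1 : GolayPt → ZMod 2)) (monoAut_injective this)
    simp only [Submodule.coe_add, ZeroMemClass.coe_zero, zero_add, hw] at e
    rw [← vec_permMask] at e
    refine (vec_inj hlt permMask_word_lt ?_).symm
    refine Eq.trans ?_ e
    funext p; simp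
  rw [coe_param]
  rcases h2 with h | h <;> [left; right]
  · rw [show x.1 = (0, 1) from Prod.ext (Subtype.ext (by rw [hw, h, vec_zero]; rfl)) hσ, monoAut,
      signAut_zero, one_mul]
    exact map_one _
  · rw [show x.1 = (tW, 1) from Prod.ext (Subtype.ext (by rw [hw, h]; rfl)) hσ, tCo, signAut_eq_monoAut]

theorem tW_triv : Triv (tW, 1) := fun p hp => ⟨by rw [tW_apply, if_pos hp], rfl⟩

/-- The sign change as an element of the kernel. -/
noncomputable def tK : toSp.ker := param ⟨(tW, 1), tW_triv⟩

theorem coe_tK : ((tK : C0) : Co0) = tCo := by rw [tK, coe_param, tCo, signAut_eq_monoAut]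

theorem tCo_ne_one : tCo ≠ 1 := by
  intro h
  have h2 := congrFun (congrArg Subtype.val
    (congrArg (fun k : Co0 => k • eightAt (pt 4)) h)) (pt 4)
  simp only [tCo, signAut_apply, one_smul] at h2
  simp only [flipSign, tW_apply, eightAt_apply] at h2
  simp [show oMask.testBit (idx (pt 4)) = false from by decide +kernel] at h2

theorem ker_center_eq : (Subgroup.center toSp.ker : Set toSp.ker) = {1, tK} := by
  ext g
  simp only [SetLike.mem_coe, Subgroup.mem_center_iff, Set.mem_insert_iff, Set.mem_singleton_iff]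
  constructor
  · intro h
    rcases ker_center (g := g) (fun k => (h k).symm) with e | e
    · exact Or.inl (Subtype.ext (Subtype.ext (by rw [e]; rfl)))
    · exact Or.inr (Subtype.ext (Subtype.ext (by rw [e, coe_tK])))
  · rintro (rfl | rfl) h
    · rw [mul_one, one_mul]
    · refine Subtype.ext (Subtype.ext ?_)
      simp only [Subgroup.coe_mul, coe_tK]
      obtain ⟨y, rfl⟩ := param_bijective.2 h
      rw [coe_param]
      exact triv_comm y.2

theorem tK_ne_one : tK ≠ 1 := fun h => tCo_ne_one (by rw [← coe_tK, h]; rfl)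

theorem card_center_ker : Nat.card (Subgroup.center toSp.ker) = 2 := by
  show Nat.card (Subgroup.center toSp.ker : Set toSp.ker) = 2
  rw [ker_center_eq, Nat.card_coe_set_eq, Set.ncard_pair tK_ne_one.symm]

theorem sq_mem_center (g : toSp.ker) : g * g ∈ Subgroup.center toSp.ker := by
  show g * g ∈ (Subgroup.center toSp.ker : Set toSp.ker)
  rw [ker_center_eq]
  rcases ker_sq g with e | e
  · exact Or.inl (Subtype.ext (Subtype.ext e))
  · exact Or.inr (Subtype.ext (Subtype.ext (e.trans coe_tK.symm)))

theorem isExtraspecial_ker : Cfsg.IsExtraspecial 2 toSp.ker := by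
  haveI : Finite C0 := Subtype.finite
  have hp : IsPGroup 2 toSp.ker := IsPGroup.of_card (n := 9) (by rw [card_ker_toSp]; norm_num)
  have hcomm : commutator toSp.ker = Subgroup.center toSp.ker := by
    have hle : commutator toSp.ker ≤ Subgroup.center toSp.ker := by
      rw [commutator_def, Subgroup.commutator_le]
      intro a _ b _
      have e : ⁅a, b⁆ = (a * a) * ((a⁻¹ * b) * (a⁻¹ * b)) * (b * b)⁻¹ := by
        rw [commutatorElement_def]; group
      rw [e]
      exact mul_mem (mul_mem (sq_mem_center a) (sq_mem_center _)) (inv_mem (sq_mem_center b))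
    refine (eq_or_lt_of_le hle).resolve_right fun hlt => ?_
    have hb : commutator toSp.ker = ⊥ := by
      have h1 := Subgroup.card_dvd_of_le hle
      rw [card_center_ker] at h1
      rcases (Nat.dvd_prime Nat.prime_two).mp h1 with h | h
      · exact Subgroup.card_eq_one.mp h
      · exact absurd (Subgroup.eq_of_le_of_card_ge hle (by rw [card_center_ker, h])) hlt.ne
    have htop : Subgroup.center toSp.ker = ⊤ := by
      rw [eq_top_iff]
      intro a _
      rw [Subgroup.mem_center_iff]
      intro b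
      have hc : ⁅b, a⁆ ∈ commutator toSp.ker :=
        Subgroup.commutator_mem_commutator (Subgroup.mem_top b) (Subgroup.mem_top a)
      rw [hb, Subgroup.mem_bot] at hc
      exact commutatorElement_eq_one_iff_mul_comm.mp hc
    have := card_center_ker
    rw [htop, Subgroup.card_top, card_ker_toSp] at this
    norm_num at this
  refine ⟨⟨hp, le_antisymm ?_ ?_, hcomm⟩, card_center_ker⟩
  · have h := frattini_le_comap_frattini_of_surjective
      (φ := QuotientGroup.mk' (Subgroup.center toSp.ker)) (QuotientGroup.mk'_surjective _)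
    rw [CfsgLib.TISet.frattini_eq_bot_of_sq
      (G := toSp.ker ⧸ Subgroup.center toSp.ker), MonoidHom.comap_bot, QuotientGroup.ker_mk'] at h
    · exact h
    · intro q
      obtain ⟨a, rfl⟩ := QuotientGroup.mk_surjective q
      rw [← QuotientGroup.mk_pow, QuotientGroup.eq_one_iff, sq]
      exact sq_mem_center a
  · rw [← hcomm]
    refine (Subgroup.commutator_le.mpr fun a _ b _ => ?_)
    have e : ⁅a, b⁆ = (a * a) * ((a⁻¹ * b) * (a⁻¹ * b)) * (b * b)⁻¹ := by
      rw [commutatorElement_def]; group
    rw [e, ← sq, ← sq, ← sq]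
    exact mul_mem (mul_mem (CfsgLib.TISquares.sq_mem_frattini hp a)
      (CfsgLib.TISquares.sq_mem_frattini hp _)) (inv_mem (CfsgLib.TISquares.sq_mem_frattini hp b))

end CfsgLib.Co2Cent
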