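/-
The action is onto the symplectic group, and the centraliser in the stabiliser of the vector.
-/
import Cfsg.Agent.Co2Cent.Extra
import Cfsg.Agent.Classical.SymplecticSimple
import Cfsg.Agent.Comp.Fitting
import Cfsg.Prelude.Def_Spor_Conway

set_option autoImplicit false
set_option maxRecDepth 100000

namespace CfsgLib.Co2Cent

open Cfsg CfsgLib.Golay CfsgLib.Leech CfsgLib.Golay.Cert

/-- The raw map of a monomial element, possibly preceded by the reflection. -/
def raw (c : ℕ) (L : List ℕ) (r : Bool) (v : GolayPt → ℤ) : GolayPt → ℤ :=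
  flipSign (vec (word c)) (permL L (if r then xi v else v))

theorem xi_flip_tW (v : leechLattice) :
    xi (flipSign (tW : GolayPt → ZMod 2) v) = flipSign (tW : GolayPt → ZMod 2) (xi v) := by
  have hconst : ∀ a b, (tW : GolayPt → ZMod 2) (tetPt a b) =
      (tW : GolayPt → ZMod 2) (tetPt a 0) := by
    unfold tW; decide +kernel
  funext p
  have hp : (tW : GolayPt → ZMod 2) p = (tW : GolayPt → ZMod 2) (tetPt (tetOf p) 0) := by
    conv_lhs => rw [← tetPt_tetOf p, hconst]
  have hb : ∀ b, (tW : GolayPt → ZMod 2) (tetPt (tetOf p) b) = (tW : GolayPt → ZMod 2) p := fun b => by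
    rw [hconst, hp]
  obtain ⟨k, hk⟩ := tetSum_even v.2 (tetOf p)
  rcases (by decide : ∀ a : ZMod 2, a = 0 ∨ a = 1) ((tW : GolayPt → ZMod 2) p) with e | e
  · have hs : tetSum (flipSign (tW : GolayPt → ZMod 2) v) (tetOf p) = 2 * k := by
      rw [← hk]; exact Finset.sum_congr rfl fun b _ => by simp [flipSign, hb, e]
    simp only [xi, flipSign, e, zero_ne_one, if_false] at hs ⊢
    rw [hs, hk]
  · have hs : tetSum (flipSign (tW : GolayPt → ZMod 2) v) (tetOf p) = 2 * -k := by
      rw [mul_neg, ← hk, tetSum, tetSum, ← Finset.sum_neg_distrib]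
      exact Finset.sum_congr rfl fun b _ => by simp [flipSign, hb, e]
    simp only [xi, flipSign, e, if_true] at hs ⊢
    rw [hs, hk, Int.mul_ediv_cancel_left _ two_ne_zero, Int.mul_ediv_cancel_left _ two_ne_zero]
    ring

theorem xi_comm : xiAut * tCo = tCo * xiAut := ext_co0 fun v => by
  rw [mul_smul, mul_smul]
  refine Subtype.ext ?_
  rw [xiAut_apply, tCo, signAut_apply, signAut_apply, xiAut_apply]
  exact xi_flip_tW v

/-- The check that an element lies in the centraliser. -/
def goodElt (c : ℕ) (L : List ℕ) (r : Bool) : Bool :=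
  genOK L && permMask L (word tC) 24 == word tC &&
    decide (∀ p, raw c L r Spor.vecU p = Spor.vecU p)

theorem exists_elt {c : ℕ} {L : List ℕ} {r : Bool} (h : goodElt c L r = true) :
    ∃ g : C0, ∀ v : leechLattice,
      (((g : Co0) • v : leechLattice) : GolayPt → ℤ) = raw c L r v := by
  simp only [goodElt, Bool.and_eq_true, beq_iff_eq, decide_eq_true_eq] at h
  obtain ⟨⟨h1, h2⟩, h3⟩ := h
  obtain ⟨σ, hσ⟩ := genOK_spec h1
  let m : Co0 := signAut ⟨vec (word c), vec_word_mem c⟩ * permHom σ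
  have hm : ∀ v : leechLattice, ((m • v : leechLattice) : GolayPt → ℤ) =
      flipSign (vec (word c)) (permL L v) := fun v => by
    rw [mul_smul, signAut_apply, permHom_eq_permL σ hσ]
  have hfix : (fun i => (tW : GolayPt → ZMod 2) ((σ : Equiv.Perm GolayPt)⁻¹ i)) =
      (tW : GolayPt → ZMod 2) := by
    show (fun i => vec (word tC) _) = vec (word tC)
    rw [← vec_permMask, hσ, h2]
  have hmc : m * tCo = tCo * m := by
    show monoAut (⟨vec (word c), vec_word_mem c⟩, σ) * _ = _ * monoAut (⟨vec (word c), vec_word_mem c⟩, σ)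
    rw [tCo, signAut_eq_monoAut, monoAut_mul, monoAut_mul]
    congr 1
    refine Prod.ext (Subtype.ext ?_) (by simp)
    simp only [Submodule.coe_add]
    rw [hfix]
    funext p
    simp only [Pi.add_apply, OneMemClass.coe_one, inv_one, Equiv.Perm.coe_one, id_eq]
    exact add_comm _ _
  cases r
  · refine ⟨⟨m, mem_C0.mpr ⟨hmc, Subtype.ext ?_⟩⟩, hm⟩
    rw [hm]
    exact funext h3
  · refine ⟨⟨m * xiAut, mem_C0.mpr ⟨?_, Subtype.ext ?_⟩⟩, fun v => ?_⟩
    · rw [mul_assoc, xi_comm, ← mul_assoc, hmc, mul_assoc]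
    · rw [mul_smul, hm, xiAut_apply]
      exact funext h3
    · show ((((m * xiAut) • v : leechLattice)) : GolayPt → ℤ) = _
      rw [mul_smul, hm, xiAut_apply]
      rfl

/-- The three elements used. -/
def eltC : ℕ → ℕ × List ℕ × Bool
  | 0 => (monoC, monoL, false)
  | 1 => (xiC, xiL, true)
  | _ => (tvC, tvL, false)

theorem eltC_good : ∀ k < 3, goodElt (eltC k).1 (eltC k).2.1 (eltC k).2.2 = true := by
  decide +kernel

/-- One of the three elements. -/
noncomputable def elt (k : Fin 3) : C0 := (exists_elt (eltC_good k.val k.isLt)).choose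

theorem act_elt (k : Fin 3) (n : Fin 64) : act (elt k) (ofN n) =
    coords (raw (eltC k.val).1 (eltC k.val).2.1 (eltC k.val).2.2 (repN n)) := by
  show coords _ = _
  rw [elt, (exists_elt (eltC_good k.val k.isLt)).choose_spec]
  exact congrArg (fun v => coords (raw _ _ _ v)) (rep_ofN n)

theorem tv_table : ∀ n : Fin 64, coords (raw tvC tvL false (repN n)) =
    ofN n + (1 * Symp.form (ofN n) (ofN (Fin.ofNat 64 tvV))) • ofN (Fin.ofNat 64 tvV) := by
  decide +kernel

theorem tv_mem_range : Symp.tv (ofN (Fin.ofNat 64 tvV)) (1 : ZMod 2) ∈ toSp.range :=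
  ⟨elt 2, Symp.symp_ext fun x => by
    obtain ⟨n, rfl⟩ := ofN_bijective.2 x
    rw [toSp_smul, act_elt, Symp.tv_smul]
    exact tv_table n⟩

/-- One step of the orbit search. -/
def stepOrb (acc : List (Fin 64)) (e : ℕ × ℕ × ℕ) : List (Fin 64) :=
  if coords (raw (eltC e.2.1).1 (eltC e.2.1).2.1 (eltC e.2.1).2.2 (repN (acc.getD e.1 0))) =
      ofN (Fin.ofNat 64 e.2.2) ∧ e.1 < acc.length ∧ e.2.1 < 3
  then acc ++ [Fin.ofNat 64 e.2.2] else acc

theorem orb_cover : ∀ n : Fin 64, n ≠ 0 →
    n ∈ prog.foldl stepOrb [Fin.ofNat 64 tvV] := by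
  decide +kernel

theorem orb_reach : ∀ (P : List (ℕ × ℕ × ℕ)) (acc : List (Fin 64)),
    (∀ n ∈ acc, ∃ g ∈ toSp.range, g • ofN (Fin.ofNat 64 tvV) = ofN n) →
    ∀ n ∈ P.foldl stepOrb acc, ∃ g ∈ toSp.range, g • ofN (Fin.ofNat 64 tvV) = ofN n
  | [], acc, h => h
  | e :: P, acc, h => by
    rw [List.foldl_cons]
    refine orb_reach P _ fun n hn => ?_
    by_cases hc : coords (raw (eltC e.2.1).1 (eltC e.2.1).2.1 (eltC e.2.1).2.2
        (repN (acc.getD e.1 0))) = ofN (Fin.ofNat 64 e.2.2) ∧ e.1 < acc.length ∧ e.2.1 < 3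
    · rw [stepOrb, if_pos hc, List.mem_append, List.mem_singleton] at hn
      rcases hn with hn | rfl
      · exact h n hn
      · obtain ⟨g, hg, he⟩ := h (acc.getD e.1 0) (by
          rw [List.getD_eq_getElem _ _ hc.2.1]; exact List.getElem_mem _)
        refine ⟨toSp (elt ⟨e.2.1, hc.2.2⟩) * g, mul_mem ⟨_, rfl⟩ hg, ?_⟩
        rw [mul_smul, he, toSp_smul, act_elt]
        exact hc.1
    · rw [stepOrb, if_neg hc] at hn
      exact h n hn

theorem toSp_surjective : Function.Surjective toSp := by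
  rw [← MonoidHom.range_eq_top, eq_top_iff, ← Symp.tvGroup_eq_top, Symp.tvGroup,
    Subgroup.closure_le]
  rintro _ ⟨w, -, c, rfl⟩
  rcases (by decide : ∀ a : ZMod 2, a = 0 ∨ a = 1) c with rfl | rfl
  · rw [Symp.tv_zero]; exact one_mem _
  obtain ⟨n, rfl⟩ := ofN_bijective.2 w
  by_cases hn : n = 0
  · subst hn
    rw [ofN_zero]
    have : Symp.tv (0 : V6) (1 : ZMod 2) = 1 := Symp.symp_ext fun x => by
      rw [Symp.tv_smul, smul_zero, add_zero, one_smul]
    rw [this]; exact one_mem _
  obtain ⟨g, hg, he⟩ := orb_reach prog [Fin.ofNat 64 tvV] (fun m hm => by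
    rw [List.mem_singleton] at hm
    exact ⟨1, one_mem _, by rw [hm, one_smul]⟩) n (orb_cover n hn)
  rw [← he, ← Symp.tv_conj]
  exact mul_mem (mul_mem hg tv_mem_range) (inv_mem hg)

theorem sp_simple : IsSimpleGroup (Matrix.symplecticGroup (Fin 3) (ZMod 2)) ∧
    2 < Nat.card (Matrix.symplecticGroup (Fin 3) (ZMod 2)) := by
  have hZ : Subgroup.center (Matrix.symplecticGroup (Fin 3) (ZMod 2)) = ⊥ := by
    rw [← Subgroup.card_eq_one, Symp.card_center]
    simp [Nat.card_eq_fintype_card]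
  suffices h2 : 2 < Nat.card (Matrix.symplecticGroup (Fin 3) (ZMod 2)) by
    refine ⟨?_, h2⟩
    haveI : Nontrivial (Matrix.symplecticGroup (Fin 3) (ZMod 2)) :=
      Finite.one_lt_card_iff_nontrivial.mp (by omega)
    haveI := Symp.isSimpleGroup_quot (l := Fin 3) (F := ZMod 2) (Or.inl (by simp))
    exact IsSimpleGroup.isSimpleGroup_of_surjective
      ((QuotientGroup.quotientMulEquivOfEq hZ).trans QuotientGroup.quotientBot).toMonoidHom
      (MulEquiv.surjective _)
  · by_contra hle
    let f : {n : Fin 64 // n ≠ 0} → Matrix.symplecticGroup (Fin 3) (ZMod 2) :=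
      fun n => Symp.tv (ofN n.1) 1
    have hf : Function.Injective f := by
      intro a b h
      have key : ∀ m n : Fin 64, (∀ x : Fin 64, (1 * Symp.form (ofN x) (ofN m)) • ofN m =
          (1 * Symp.form (ofN x) (ofN n)) • ofN n) → m ≠ 0 → m = n := by decide +kernel
      refine Subtype.ext (key _ _ (fun x => ?_) a.2)
      have := congrArg (fun t : Matrix.symplecticGroup (Fin 3) (ZMod 2) => t • ofN x) h
      simp only [f, Symp.tv_smul] at this
      exact add_left_cancel this
    have := Nat.card_le_card_of_injective f hf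
    rw [Nat.card_eq_fintype_card (α := {n : Fin 64 // n ≠ 0})] at this
    simp at this
    omega

theorem pCore_C0 : Cfsg.pCore 2 C0 = toSp.ker := by
  haveI : Finite C0 := Subtype.finite
  have hp : IsPGroup 2 toSp.ker := IsPGroup.of_card (n := 9) (by rw [card_ker_toSp]; norm_num)
  refine le_antisymm ?_ (le_sSup ⟨inferInstance, hp⟩)
  have hc := CfsgLib.Comp.pCore_isPGroup' (G := C0) 2
  haveI : (Cfsg.pCore 2 C0).Normal := Cfsg.pCore_normal 2 C0
  haveI := sp_simple.1
  rcases ((inferInstance : (Cfsg.pCore 2 C0).Normal).map toSp toSp_surjective).eq_bot_or_eq_top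
    with h | h
  · exact (Subgroup.map_eq_bot_iff _).mp h
  · exfalso
    have h2 : IsPGroup 2 (Matrix.symplecticGroup (Fin 3) (ZMod 2)) := by
      have := hc.map toSp
      rw [h] at this
      exact this.of_equiv Subgroup.topEquiv
    haveI : Fact (Nat.Prime 2) := ⟨Nat.prime_two⟩
    haveI : Nontrivial (Matrix.symplecticGroup (Fin 3) (ZMod 2)) := IsSimpleGroup.toNontrivial
    have hz := h2.center_nontrivial
    rcases (inferInstance : (Subgroup.center (Matrix.symplecticGroup (Fin 3) (ZMod 2))).Normal).eq_bot_or_eq_top with hb | ht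
    · exact (Subgroup.nontrivial_iff_ne_bot _).mp hz hb
    · have hcard := sp_simple.2
      have hone : Nat.card (Subgroup.center (Matrix.symplecticGroup (Fin 3) (ZMod 2))) = 1 := by
        rw [Symp.card_center]; simp [Nat.card_eq_fintype_card]
      rw [ht, Subgroup.card_top] at hone
      omega

/-- The sign change as an element of the group. -/
def tTwo : ↥Spor.Co2 :=
  ⟨(tCo : Equiv.Perm leechLattice), ⟨tCo.2, by
    show tCo • Spor.leechU = Spor.leechU
    exact (supp_iff _).mpr vecU_supp⟩⟩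

theorem orderOf_tTwo : orderOf tTwo = 2 := by
  refine orderOf_eq_prime ?_ fun h => tCo_ne_one (Subtype.ext (congrArg (fun z : ↥Spor.Co2 => (z : Equiv.Perm leechLattice)) h))
  refine Subtype.ext ?_
  rw [sq]
  show ((tCo * tCo : Co0) : Equiv.Perm leechLattice) = _
  rw [show tCo * tCo = 1 by rw [tCo]; nth_rewrite 1 [← signAut_inv]; rw [inv_mul_cancel]]
  rfl

/-- The centraliser is the group just studied. -/
def centEquiv : C0 ≃* ↥(Subgroup.centralizer ({tTwo} : Set ↥Spor.Co2)) where
  toFun g := ⟨⟨((g : Co0) : Equiv.Perm leechLattice), ⟨(g : Co0).2, (mem_C0.mp g.2).2⟩⟩, by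
    have h := congrArg (fun z : Co0 => (z : Equiv.Perm leechLattice)) (mem_C0.mp g.2).1
    exact Subgroup.mem_centralizer_singleton_iff.mpr (Subtype.ext h)⟩
  invFun k := ⟨⟨(k.1 : Equiv.Perm leechLattice), k.1.2.1⟩, mem_C0.mpr
    ⟨Subtype.ext (congrArg (fun z : ↥Spor.Co2 => (z : Equiv.Perm leechLattice))
      (Subgroup.mem_centralizer_singleton_iff.mp k.2)), k.1.2.2⟩⟩
  left_inv _ := rfl
  right_inv _ := rfl
  map_mul' _ _ := rfl

theorem pCore_map_le {A B : Type*} [Group A] [Group B] (f : A ≃* B) :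
    (Cfsg.pCore 2 A).map f.toMonoidHom ≤ Cfsg.pCore 2 B := by
  rw [Subgroup.map_le_iff_le_comap]
  refine sSup_le fun N hN => Subgroup.map_le_iff_le_comap.mp (le_sSup ⟨?_, hN.2.map _⟩)
  exact hN.1.map _ f.surjective

theorem pCore_map_equiv {G H : Type*} [Group G] [Group H] (e : G ≃* H) :
    (Cfsg.pCore 2 G).map e.toMonoidHom = Cfsg.pCore 2 H := by
  refine le_antisymm (pCore_map_le e) fun x hx => ⟨e.symm x, ?_, e.apply_symm_apply x⟩
  exact pCore_map_le e.symm ⟨x, hx, rfl⟩

theorem isExtraspecial_equiv {A B : Type*} [Group A] [Finite A] [Group B] (e : A ≃* B)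
    (h : Cfsg.IsExtraspecial 2 A) : Cfsg.IsExtraspecial 2 B := by
  haveI : Finite B := Finite.of_equiv A e.toEquiv
  obtain ⟨⟨hp, hf, hc⟩, hz⟩ := h
  have hcen : (Subgroup.center A).map e.toMonoidHom = Subgroup.center B := by
    ext x
    constructor
    · rintro ⟨a, ha, rfl⟩
      refine Subgroup.mem_center_iff.mpr fun b => e.symm.injective ?_
      simpa using Subgroup.mem_center_iff.mp ha (e.symm b)
    · intro hx
      refine ⟨e.symm x, Subgroup.mem_center_iff.mpr fun a => e.injective ?_, e.apply_symm_apply x⟩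
      simpa using Subgroup.mem_center_iff.mp hx (e a)
  refine ⟨⟨hp.of_equiv e, ?_, ?_⟩, ?_⟩
  · rw [← hcen, ← hf]
    refine le_antisymm ?_ ?_
    · intro x hx
      refine ⟨e.symm x, ?_, e.apply_symm_apply x⟩
      exact frattini_le_comap_frattini_of_surjective (φ := e.symm.toMonoidHom) e.symm.surjective hx
    · rintro _ ⟨a, ha, rfl⟩
      exact frattini_le_comap_frattini_of_surjective (φ := e.toMonoidHom) e.surjective ha
  · rw [← hcen, ← hc, commutator_def, commutator_def, Subgroup.map_commutator,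
      Subgroup.map_top_of_surjective _ e.surjective]
  · rw [← hcen, ← hz]
    exact (Nat.card_congr ((Subgroup.center A).equivMapOfInjective _ e.injective).toEquiv).symm

/-- The involution centralizer. -/
theorem result : ∃ t : ↥Cfsg.Spor.Co2, orderOf t = 2 ∧
    Cfsg.IsExtraspecial 2 (Cfsg.pCore 2 ↥(Subgroup.centralizer ({t} : Set ↥Cfsg.Spor.Co2))) ∧
    Nat.card (Cfsg.pCore 2 ↥(Subgroup.centralizer ({t} : Set ↥Cfsg.Spor.Co2))) = 2 ^ 9 ∧
    Nonempty (↥(Subgroup.centralizer ({t} : Set ↥Cfsg.Spor.Co2)) ⧸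
      Cfsg.pCore 2 ↥(Subgroup.centralizer ({t} : Set ↥Cfsg.Spor.Co2)) ≃*
        Matrix.symplecticGroup (Fin 3) (ZMod 2)) := by
  haveI : Finite C0 := Subtype.finite
  have hcore : toSp.ker.map centEquiv.toMonoidHom =
      Cfsg.pCore 2 ↥(Subgroup.centralizer ({tTwo} : Set ↥Cfsg.Spor.Co2)) := by
    rw [← pCore_C0]; exact pCore_map_equiv centEquiv
  let eK : toSp.ker ≃* Cfsg.pCore 2 ↥(Subgroup.centralizer ({tTwo} : Set ↥Cfsg.Spor.Co2)) :=
    (toSp.ker.equivMapOfInjective _ centEquiv.injective).trans (MulEquiv.subgroupCongr hcore)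
  refine ⟨tTwo, orderOf_tTwo, isExtraspecial_equiv eK isExtraspecial_ker, ?_, ?_⟩
  · rw [← Nat.card_congr eK.toEquiv, card_ker_toSp]; norm_num
  · haveI : (Cfsg.pCore 2 ↥(Subgroup.centralizer ({tTwo} : Set ↥Cfsg.Spor.Co2))).Normal := by
      rw [← hcore]; exact (inferInstance : toSp.ker.Normal).map _ centEquiv.surjective
    exact ⟨((QuotientGroup.congr toSp.ker _ centEquiv hcore).symm).trans
      (QuotientGroup.quotientKerEquivOfSurjective toSp toSp_surjective)⟩

end CfsgLib.Co2Cent
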